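import Cfsg.Agent.H140.S4536N2

/-!
# Sums over cyclic groups for the counting part of S4536 / S4537 (helper610)

* `sum_index` : `∑_{a ∈ A} K ^ |A : B + ⟨a⟩| = |B| ∑_{c < k} K ^ gcd(c, k)`, `k = |A : B|`, `A` cyclic;
* `prod_bound` : the sum of a product of functions, each one constant on the cosets of a subgroup;
* `card_le_of_fibre` : `|B| ≤ g |S|`.
-/

set_option autoImplicit false

namespace Cfsg.Agent.H610.GLB

open Finset

set_option linter.unusedSectionVars false

section Quot

variable {A : Type*} [AddCommGroup A] [Finite A] [Fintype A]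

open Classical in
theorem card_fibre (B : AddSubgroup A) (u : A ⧸ B) :
    (Finset.univ.filter fun a : A => (a : A ⧸ B) = u).card = Nat.card B := by
  obtain ⟨a0, rfl⟩ := QuotientAddGroup.mk_surjective u
  rw [← Fintype.card_subtype, ← Nat.card_eq_fintype_card]
  refine Nat.card_congr ⟨fun a => ⟨-a0 + a.1, ?_⟩, fun s => ⟨a0 + s.1, ?_⟩, fun a => ?_, fun s => ?_⟩
  · have h := a.2
    exact QuotientAddGroup.eq.1 h.symm
  · rw [QuotientAddGroup.eq, neg_add_rev, add_assoc, neg_add_cancel, add_zero]
    exact B.neg_mem s.2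
  · exact Subtype.ext (by simp)
  · exact Subtype.ext (by simp)

theorem sum_quot (B : AddSubgroup A) [Fintype (A ⧸ B)] (f : A ⧸ B → ℕ) :
    ∑ a : A, f (a : A ⧸ B) = Nat.card B * ∑ u : A ⧸ B, f u := by
  classical
  rw [← Finset.sum_fiberwise (s := (Finset.univ : Finset A)) (g := fun a : A => (a : A ⧸ B)), Finset.mul_sum]
  refine Finset.sum_congr rfl fun u _ => ?_
  rw [Finset.sum_congr rfl (g := fun _ => f u) (fun a ha => by rw [(Finset.mem_filter.1 ha).2]), Finset.sum_const,
    card_fibre, smul_eq_mul]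

end Quot

/-- the sum over a cyclic group -/
theorem sum_cyclic {C : Type*} [AddCommGroup C] [Finite C] [Fintype C] [IsAddCyclic C] (K : ℕ) :
    ∑ u : C, K ^ (AddSubgroup.zmultiples u).index = ∑ c ∈ range (Nat.card C), K ^ Nat.gcd c (Nat.card C) := by
  classical
  obtain ⟨g, hg⟩ := IsAddCyclic.exists_generator (α := C)
  have hk : addOrderOf g = Nat.card C := addOrderOf_eq_card_of_forall_mem_zmultiples hg
  have hpos : 0 < Nat.card C := Nat.card_pos
  symm
  refine Finset.sum_bij (fun c _ => c • g) (fun _ _ => Finset.mem_univ _) ?_ ?_ ?_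
  · intro c hc c' hc' h
    rw [Finset.mem_range, ← hk] at hc hc'
    exact nsmul_injOn_Iio_addOrderOf (by simpa using hc) (by simpa using hc') h
  · intro u _
    obtain ⟨z, hz⟩ := hg u
    have h1 : u ∈ AddSubmonoid.multiples g := by
      rw [mem_multiples_iff_mem_zmultiples]
      exact hg u
    obtain ⟨j, hj⟩ := h1
    refine ⟨j % Nat.card C, Finset.mem_range.2 (Nat.mod_lt _ hpos), ?_⟩
    have hj' : j • g = u := hj
    rw [← hk, mod_addOrderOf_nsmul, hj']
  · intro c _
    have h1 : (AddSubgroup.zmultiples (c • g)).index * addOrderOf (c • g) = Nat.card C := by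
      rw [← Nat.card_zmultiples]
      exact AddSubgroup.index_mul_card _
    have h2 : addOrderOf (c • g) = Nat.card C / Nat.gcd (Nat.card C) c := by
      rw [addOrderOf_nsmul, hk]
    have h3 : Nat.gcd (Nat.card C) c * (Nat.card C / Nat.gcd (Nat.card C) c) = Nat.card C :=
      Nat.mul_div_cancel' (Nat.gcd_dvd_left _ _)
    have h4 : 0 < Nat.card C / Nat.gcd (Nat.card C) c := by
      rw [← h2]
      exact addOrderOf_pos _
    rw [h2] at h1
    have h5 := Nat.eq_of_mul_eq_mul_right h4 (h1.trans h3.symm)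
    rw [h5, Nat.gcd_comm]

/-- the sum over a cyclic group, relative to a subgroup -/
theorem sum_index {A : Type*} [AddCommGroup A] [Finite A] [Fintype A] [IsAddCyclic A] (B : AddSubgroup A) (K : ℕ) :
    ∑ a : A, K ^ (B ⊔ AddSubgroup.zmultiples a).index = Nat.card B * ∑ c ∈ range B.index, K ^ Nat.gcd c B.index := by
  classical
  have := Fintype.ofFinite (A ⧸ B)
  have hcyc : IsAddCyclic (A ⧸ B) := isAddCyclic_of_surjective (QuotientAddGroup.mk' B) (QuotientAddGroup.mk'_surjective B)
  have h1 : ∀ a : A, (B ⊔ AddSubgroup.zmultiples a).index = (AddSubgroup.zmultiples (a : A ⧸ B)).index := by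
    intro a
    rw [← AddSubgroup.index_comap_of_surjective (AddSubgroup.zmultiples (a : A ⧸ B)) (QuotientAddGroup.mk'_surjective B)]
    congr 1
    have h2 : AddSubgroup.zmultiples (a : A ⧸ B) = (AddSubgroup.zmultiples a).map (QuotientAddGroup.mk' B) := by
      rw [AddMonoidHom.map_zmultiples]
      rfl
    rw [h2, AddSubgroup.comap_map_eq, QuotientAddGroup.ker_mk', sup_comm]
  rw [Finset.sum_congr rfl fun a _ => by rw [h1 a], sum_quot B (fun u => K ^ (AddSubgroup.zmultiples u).index), sum_cyclic]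
  rfl

/-- **The sum of a product of functions which are constant on the cosets of subgroups.** -/
theorem prod_bound {A : Type*} [AddCommGroup A] [Finite A] [Fintype A] {Ω : Type*} [Fintype Ω] (S : Ω → AddSubgroup A)
    (h : Ω → A → ℕ) (hinv : ∀ o a s, s ∈ S o → h o (a + s) = h o a) (P : Ω → ℕ)
    (hP : ∀ o, ∑ a, h o a ≤ Nat.card (S o) * P o) :
    ∑ a, ∏ o, h o a ≤ Nat.card (⨅ o, S o : AddSubgroup A) * ∏ o, P o := by
  classical
  have hf : ∀ o, Fintype (A ⧸ S o) := fun o => Fintype.ofFinite _
  have hlift : ∀ o, ∃ f : A ⧸ S o → ℕ, ∀ a : A, f (a : A ⧸ S o) = h o a := by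
    intro o
    refine ⟨fun u => Quotient.liftOn' u (h o) ?_, fun a => rfl⟩
    intro a b hab
    rw [QuotientAddGroup.leftRel_apply] at hab
    have := hinv o a _ hab
    rw [← this]
    congr 1
    abel
  choose f hf' using hlift
  have hsum : ∀ o, ∑ u, f o u ≤ P o := by
    intro o
    have h1 := hP o
    rw [Finset.sum_congr rfl (fun a _ => (hf' o a).symm), sum_quot (S o) (f o)] at h1
    exact Nat.le_of_mul_le_mul_left h1 Nat.card_pos
  let Φ : A → ∀ o, A ⧸ S o := fun a o => (a : A ⧸ S o)
  have hfib : ∀ v : ∀ o, A ⧸ S o, (Finset.univ.filter fun a : A => Φ a = v).card ≤ Nat.card (⨅ o, S o : AddSubgroup A) := by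
    intro v
    rcases (Finset.univ.filter fun a : A => Φ a = v).eq_empty_or_nonempty with h0 | ⟨a0, ha0⟩
    · rw [h0, Finset.card_empty]
      exact Nat.zero_le _
    · have h1 := (Finset.mem_filter.1 ha0).2
      rw [Nat.card_eq_fintype_card, ← Finset.card_univ]
      refine Finset.card_le_card_of_injOn (fun a => if ha : -a0 + a ∈ (⨅ o, S o : AddSubgroup A) then ⟨-a0 + a, ha⟩ else 0)
        (fun _ _ => Finset.mem_coe.2 (Finset.mem_univ _)) ?_
      have key : ∀ a ∈ (Finset.univ.filter fun a : A => Φ a = v), -a0 + a ∈ (⨅ o, S o : AddSubgroup A) := by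
        intro a ha
        rw [AddSubgroup.mem_iInf]
        intro o
        have h2 := (Finset.mem_filter.1 ha).2
        rw [← QuotientAddGroup.eq]
        exact congrFun (h1.trans h2.symm) o
      intro a ha b hb hab
      simp only at hab
      rw [dif_pos (key a (Finset.mem_coe.1 ha)), dif_pos (key b (Finset.mem_coe.1 hb))] at hab
      exact add_left_cancel (congrArg Subtype.val hab)
  have h1 : ∀ a : A, ∏ o, h o a = ∏ o, f o (Φ a o) := fun a => Finset.prod_congr rfl fun o _ => (hf' o a).symm
  rw [Finset.sum_congr rfl fun a _ => h1 a, ← Finset.sum_fiberwise (s := (Finset.univ : Finset A)) (g := Φ)]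
  calc ∑ v, ∑ a ∈ Finset.univ.filter (fun a : A => Φ a = v), ∏ o, f o (Φ a o)
      = ∑ v, (Finset.univ.filter fun a : A => Φ a = v).card * ∏ o, f o (v o) := by
        refine Finset.sum_congr rfl fun v _ => ?_
        rw [Finset.sum_congr rfl (g := fun _ => ∏ o, f o (v o)) (fun a ha => by rw [(Finset.mem_filter.1 ha).2]),
          Finset.sum_const, smul_eq_mul]
    _ ≤ ∑ v : (∀ o, A ⧸ S o), Nat.card (⨅ o, S o : AddSubgroup A) * ∏ o, f o (v o) :=
        Finset.sum_le_sum fun v _ => Nat.mul_le_mul_right _ (hfib v)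
    _ = Nat.card (⨅ o, S o : AddSubgroup A) * ∏ o, ∑ u, f o u := by
        rw [← Finset.mul_sum, Finset.prod_univ_sum]
        simp
    _ ≤ _ := Nat.mul_le_mul_left _ (Finset.prod_le_prod' fun o _ => hsum o)

/-- `|B| ≤ g |S|` if the elements of `B` with the same value of `f < g` are congruent modulo `S` -/
theorem card_le_of_fibre {A : Type*} [AddCommGroup A] [Finite A] (B S : AddSubgroup A) (g : ℕ) (f : B → ℕ)
    (hf : ∀ b, f b < g) (h : ∀ b b' : B, f b = f b' → (b : A) - b' ∈ S) : Nat.card B ≤ g * Nat.card S := by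
  classical
  have := Fintype.ofFinite B
  have := Fintype.ofFinite S
  rw [Nat.card_eq_fintype_card, Nat.card_eq_fintype_card, ← Finset.card_univ, ← Finset.card_range g]
  rw [mul_comm]
  refine Finset.card_le_mul_card_image_of_maps_to (f := f) (fun b _ => Finset.mem_range.2 (hf b)) _ ?_
  intro i _
  rcases (Finset.univ.filter fun b : B => f b = i).eq_empty_or_nonempty with h0 | ⟨b0, hb0⟩
  · rw [h0, Finset.card_empty]
    exact Nat.zero_le _
  · rw [← Finset.card_univ]
    refine Finset.card_le_card_of_injOn (fun b => if hb : (b : A) - b0 ∈ S then ⟨(b : A) - b0, hb⟩ else 0)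
      (fun _ _ => Finset.mem_coe.2 (Finset.mem_univ _)) ?_
    have key : ∀ b ∈ (Finset.univ.filter fun b : B => f b = i), (b : A) - b0 ∈ S := fun b hb =>
      h b b0 ((Finset.mem_filter.1 hb).2.trans (Finset.mem_filter.1 hb0).2.symm)
    intro b hb c hc hbc
    simp only at hbc
    rw [dif_pos (key b (Finset.mem_coe.1 hb)), dif_pos (key c (Finset.mem_coe.1 hc))] at hbc
    exact Subtype.ext (sub_left_injective (congrArg Subtype.val hbc))

end Cfsg.Agent.H610.GLB
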