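import Cfsg.Agent.H610.GLB.Prod
import Cfsg.Agent.H38.S4536.N3

/-!
# S4536 / S4537, section DE: the counting (helper610)

* `sum_nfix_le` : (2e);
* `sum_nfix_le_one` : (3c), `p ∣ Q - 1`;
* `card_family_one` : one orbit, `p ∣ Q - 1`.
-/

set_option autoImplicit false
set_option linter.unusedSectionVars false
set_option linter.unusedVariables false

namespace Cfsg.Agent.H610.GLB

open Cfsg.Agent.H577.GLB.Std Cfsg.Agent.H614

variable {Q : ℤ} {M : ℕ} [NeZero M] {p : ℕ} {m n : ℕ}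

theorem oQ_dvd (hp : p.Prime) (hQp : IsUnit (Q : ZMod p)) : oQ Q p ∣ p - 1 := by
  have := Fact.mk hp
  unfold oQ
  exact orderOf_dvd_of_pow_eq_one (ZMod.pow_card_sub_one_eq_one hQp.ne_zero)

theorem eD_eq (hp : p.Prime) (hQp : IsUnit (Q : ZMod p)) (c : ZMod M) :
    eD Q M p c = oQ Q p / Nat.gcd (oQ Q p) (perZ Q M c) := by
  have := Fact.mk hp
  exact hQp.isOfFinOrder.orderOf_pow (Q : ZMod p) (perZ Q M c)

theorem oQ_pos (hp : p.Prime) (hQp : IsUnit (Q : ZMod p)) : 0 < oQ Q p := by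
  have := Fact.mk hp
  exact hQp.isOfFinOrder.orderOf_pos

theorem gcd_eq (hp : p.Prime) (hQp : IsUnit (Q : ZMod p)) (c : ZMod M) :
    Nat.gcd (oQ Q p) (perZ Q M c) = oQ Q p / eD Q M p c := by
  have h0 := oQ_pos hp hQp
  have hd : Nat.gcd (oQ Q p) (perZ Q M c) ∣ oQ Q p := Nat.gcd_dvd_left _ _
  rw [eD_eq hp hQp, Nat.div_div_self hd h0.ne']

theorem eD_dvd (hp : p.Prime) (hQp : IsUnit (Q : ZMod p)) (c : ZMod M) : eD Q M p c ∣ oQ Q p := by
  rw [eD_eq hp hQp]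
  exact Nat.div_dvd_of_dvd (Nat.gcd_dvd_left _ _)

open Classical in
/-- (2e) -/
theorem sum_nfix_le (hp : p.Prime) (hQ : IsUnit (Q : ZMod M)) (hQp : IsUnit (Q : ZMod p))
    {m n : ℕ} (hmn : n ≤ m) (t0 : LabZ Q M m n) (h0 : POnly M p t0.t) :
    ∑ a ∈ Finset.univ.filter (fun a : ZMod M => Stab Q M p t0 a), nfix Q M p t0 a ≤
      (Finset.univ.filter (fun a : ZMod M => SF Q M p t0 a)).card * p ^ totW Q M p t0.t := by
  refine (sum_nfix_prod (h0 := h0) hQ hp hQp).trans (Nat.mul_le_mul_left _ ?_)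
  refine le_trans (b := ∏ o : Om t0 h0 hQ, p ^ ((BB (t0 := t0) (h0 := h0) hQ o.1).index * ewt (eD Q M p o.1) (t0.t o.1))) ?_ ?_
  · refine Finset.prod_le_prod' fun o _ => ?_
    have hw : 0 < ewt (eD Q M p o.1) (t0.t o.1) := o.2.2.2
    have hK := (KS_bound (eD_pos hQp hp o.1) (t0.mono o.1)).2
    obtain ⟨v, hv⟩ : ∃ v, ewt (eD Q M p o.1) (t0.t o.1) = v + 1 := ⟨_, (Nat.sub_add_cancel hw).symm⟩
    rw [gcd_eq hp hQp]
    refine H140.S4536.N2 p (oQ Q p) (eD Q M p o.1) _ _ _ hp (oQ_dvd hp hQp) (eD_dvd hp hQp _) (eD_pos hQp hp _) hw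
      (Nat.one_le_iff_ne_zero.2 AddSubgroup.index_ne_zero_of_finite) ?_
    rw [hv] at hK ⊢
    exact hK
  · rw [Finset.prod_pow_eq_pow_sum]
    exact Nat.pow_le_pow_right hp.pos (sum_kw_le hQ hp hQp)

/-! ### `p` divides `Q - 1` -/

theorem oQ_one (hQp : (Q : ZMod p) = 1) : oQ Q p = 1 := by
  unfold oQ
  rw [hQp, orderOf_one]

theorem eD_one (hQp : (Q : ZMod p) = 1) (c : ZMod M) : eD Q M p c = 1 := by
  unfold eD
  rw [hQp, one_pow, orderOf_one]

theorem sameCol_one (β γ : Fin m → ℕ) : SameCol 1 β γ := sameCol_of_mod fun j => by rw [Nat.mod_one, Nat.mod_one]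

theorem npairs_one (β : Fin m → ℕ) : npairs 1 β = ∑ i : Fin m, (i : ℕ) := by
  have h1 := two_mul_npairs 1 β
  have h2 : (Finset.univ.filter fun x : Fin m × Fin m => β x.1 % 1 = β x.2 % 1).card = m * m := by
    rw [Finset.filter_true_of_mem (fun x _ => by rw [Nat.mod_one, Nat.mod_one]), Finset.card_univ, Fintype.card_prod,
      Fintype.card_fin]
  have h3 : (∑ i : Fin m, (i : ℕ)) * 2 = m * (m - 1) := by
    rw [Fin.sum_univ_eq_sum_range (fun i => i) m, Finset.sum_range_id_mul_two]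
  have h4 : m * (m - 1) + m = m * m := by
    rcases m with _ | m
    · rfl
    · rw [Nat.add_sub_cancel]
      ring
  omega

theorem ewt_one (β : Fin m → ℕ) : ewt 1 β = bsz β := by
  unfold ewt bsz
  rw [npairs_one]
  simp

theorem bsz_le (t0 : LabZ Q M m n) (c : ZMod M) : bsz (t0.t c) ≤ n := by
  exact (Finset.single_le_sum (f := fun c => bsz (t0.t c)) (fun _ _ => Nat.zero_le _) (Finset.mem_univ c)).trans t0.sum.le

theorem card_KS_one {β₀ : Fin m → ℕ} (hb : bsz β₀ ≤ m) :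
    Nat.card (KS 1 β₀) = Fintype.card (Nat.Partition (bsz β₀)) := by
  rw [← H38.S4536.card_tuples hb]
  refine Nat.card_congr (Equiv.subtypeEquivRight fun β => ?_)
  constructor
  · rintro ⟨h1, h2, -⟩
    exact ⟨h1, by rw [sum_of_bsz h1, h2]⟩
  · rintro ⟨h1, h2⟩
    refine ⟨h1, ?_, sameCol_one _ _⟩
    rw [sum_of_bsz h1] at h2
    omega

/-- the index of `B o` is prime to `p` -/
theorem index_coprime {t0 : LabZ Q M m n} {h0 : POnly M p t0.t} (hp : p.Prime) (B : AddSubgroup (stA t0 h0)) :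
    B.index.Coprime p := by
  rw [Nat.coprime_comm, hp.coprime_iff_not_dvd]
  intro h
  have := Fact.mk hp
  have h1 : p ∣ Nat.card (stA t0 h0) := h.trans (AddSubgroup.index_dvd_card B)
  obtain ⟨x, hx⟩ := exists_prime_addOrderOf_dvd_card' p h1
  have h2 := stA_pReg x.2
  unfold PReg at h2
  rw [AddSubgroup.addOrderOf_coe, hx, Nat.coprime_self] at h2
  exact hp.ne_one h2

open Classical in
/-- (3c) -/
theorem sum_nfix_le_one (hp : p.Prime) (hQ : IsUnit (Q : ZMod M)) (hQp : (Q : ZMod p) = 1)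
    {m n : ℕ} (hmn : n ≤ m) (hn : 0 < n) (t0 : LabZ Q M m n) (h0 : POnly M p t0.t) (j : ℕ)
    (hj : ∀ δ, p ^ j ∣ bsz (t0.t δ))
    (hex : ¬ (p = 2 ∧ ∃ δ0, (∀ δ, 0 < bsz (t0.t δ) → SameZ Q M δ0 δ) ∧
      (bsz (t0.t δ0) = 2 ∨ bsz (t0.t δ0) = 4 ∨ bsz (t0.t δ0) = 8))) :
    p * (p ^ j * ∑ a ∈ Finset.univ.filter (fun a : ZMod M => Stab Q M p t0 a), nfix Q M p t0 a) ≤
      (Finset.univ.filter (fun a : ZMod M => SF Q M p t0 a)).card * p ^ totW Q M p t0.t := by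
  have hQp' : IsUnit (Q : ZMod p) := by rw [hQp]; exact isUnit_one
  have hew : ∀ c, ewt (eD Q M p c) (t0.t c) = bsz (t0.t c) := fun c => by rw [eD_one hQp, ewt_one]
  -- a class
  have hcls : ∀ c, 0 < bsz (t0.t c) → ∃ o : Om t0 h0 hQ, rel t0 h0 o.1 c := by
    intro c hc
    have hreg : PReg M p c := by
      by_contra hcon
      rw [h0 c hcon] at hc
      exact lt_irrefl _ hc
    have hr := rep_rel t0 h0 hQ c
    have hr' := rel_symm hQ hr
    refine ⟨⟨rep t0 h0 hQ c, rep_eq t0 h0 hQ hr, (rel_data hQ hr' hreg).1, ?_⟩, hr⟩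
    rw [ewt_rel hQ hp hQp' hr' hreg, hew]
    exact hc
  have hne : Nonempty (Om t0 h0 hQ) := by
    obtain ⟨c, -, hc⟩ : ∃ c ∈ Finset.univ, 0 < bsz (t0.t c) := by
      by_contra hcon
      push Not at hcon
      have h1 := Finset.sum_eq_zero (fun c hc => Nat.le_zero.1 (hcon c hc))
      rw [t0.sum] at h1
      omega
    obtain ⟨o, -⟩ := hcls c hc
    exact ⟨o⟩
  have hprod := sum_nfix_prod (h0 := h0) hQ hp hQp'
  have hkw := sum_kw_le (h0 := h0) hQ hp hQp'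
  have hN3 := H38.S4536.N3 p hp (ι := Om t0 h0 hQ) (fun o => (BB (t0 := t0) (h0 := h0) hQ o.1).index) (fun o => bsz (t0.t o.1))
    (fun o => Nat.one_le_iff_ne_zero.2 AddSubgroup.index_ne_zero_of_finite) (fun o => index_coprime hp _)
    (fun o => by
      have := o.2.2.2
      rw [hew] at this
      exact this) j (fun o => hj o.1) (by
      rintro ⟨h2, o, ho, hk, hw⟩
      refine hex ⟨h2, o.1, fun δ hδ => ?_, hw⟩
      obtain ⟨o', b, hb, i, hi⟩ := hcls δ hδ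
      rw [ho o'] at hi
      have hB : (BB (t0 := t0) (h0 := h0) hQ o.1) = ⊤ := AddSubgroup.index_eq_one.1 hk
      obtain ⟨k, hk'⟩ := mem_fixB.1 (show (⟨b, hb⟩ : stA t0 h0) ∈ BB (t0 := t0) (h0 := h0) hQ o.1 by
        rw [hB]; exact AddSubgroup.mem_top _)
      refine ⟨i + k, ?_⟩
      have hk'' : o.1 + b = (Q : ZMod M) ^ k * o.1 := hk'
      rw [hi, pow_add, mul_assoc, ← hk'', mul_add, pow_fix (stA_fix hb)])
  have hterm : ∀ o : Om t0 h0 hQ, (Nat.gcd (oQ Q p) (perZ Q M o.1) * ∑ c ∈ Finset.range (BB (t0 := t0) (h0 := h0) hQ o.1).index,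
          Nat.card (KS (eD Q M p o.1) (t0.t o.1)) ^ Nat.gcd c (BB (t0 := t0) (h0 := h0) hQ o.1).index) =
      ∑ c ∈ Finset.range (BB (t0 := t0) (h0 := h0) hQ o.1).index,
          Fintype.card (Nat.Partition (bsz (t0.t o.1))) ^ Nat.gcd c (BB (t0 := t0) (h0 := h0) hQ o.1).index := by
    intro o
    rw [oQ_one hQp, Nat.gcd_one_left, one_mul, eD_one hQp, card_KS_one ((bsz_le t0 o.1).trans hmn)]
  rw [Finset.prod_congr rfl fun o _ => hterm o] at hprod
  rw [Finset.sum_congr rfl fun (o : Om t0 h0 hQ) _ => by rw [hew o.1]] at hkw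
  set s := ∑ o : Om t0 h0 hQ, (BB (t0 := t0) (h0 := h0) hQ o.1).index * bsz (t0.t o.1) with hs
  have hs1 : 1 ≤ s := by
    obtain ⟨o⟩ := hne
    have h1 : (BB (t0 := t0) (h0 := h0) hQ o.1).index * bsz (t0.t o.1) ≤ s :=
      Finset.single_le_sum (f := fun o : Om t0 h0 hQ => (BB (t0 := t0) (h0 := h0) hQ o.1).index * bsz (t0.t o.1))
        (fun _ _ => Nat.zero_le _) (Finset.mem_univ o)
    have h2 : 0 < (BB (t0 := t0) (h0 := h0) hQ o.1).index := Nat.pos_of_ne_zero AddSubgroup.index_ne_zero_of_finite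
    have h3 : 0 < bsz (t0.t o.1) := by
      have := o.2.2.2
      rwa [hew] at this
    exact (Nat.mul_pos h2 h3).trans_le h1
  calc p * (p ^ j * ∑ a ∈ Finset.univ.filter (fun a : ZMod M => Stab Q M p t0 a), nfix Q M p t0 a)
      ≤ p * (p ^ j * ((Finset.univ.filter (fun a : ZMod M => SF Q M p t0 a)).card * _)) :=
        Nat.mul_le_mul_left _ (Nat.mul_le_mul_left _ hprod)
    _ = (Finset.univ.filter (fun a : ZMod M => SF Q M p t0 a)).card * (p * (p ^ j * _)) := by ring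
    _ ≤ (Finset.univ.filter (fun a : ZMod M => SF Q M p t0 a)).card * (p * p ^ (s - 1)) :=
        Nat.mul_le_mul_left _ (Nat.mul_le_mul_left _ hN3)
    _ = (Finset.univ.filter (fun a : ZMod M => SF Q M p t0 a)).card * p ^ s := by
        rw [← pow_succ', Nat.sub_add_cancel hs1]
    _ ≤ _ := Nat.mul_le_mul_left _ (Nat.pow_le_pow_right hp.pos hkw)

end Cfsg.Agent.H610.GLB
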